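import Cfsg.Agent.Screen.CosetEnum.Fi23Ord.BaseData

/-!
# Checks of the base
-/

set_option autoImplicit false
set_option maxRecDepth 100000

namespace Cfsg.Agent.Screen.CosetEnum.Fi23Ord

open Cfsg.Agent.Screen.CosetEnum

theorem grow0_0 : Fi23Fi22.tbl.grow kw0 ch0_0 (addBit 0 0) = some seen0_0 := by decide +kernel

theorem grow0_1 : Fi23Fi22.tbl.grow kw0 ch0_1 seen0_0 = some seen0_1 := by decide +kernel

theorem grow0_2 : Fi23Fi22.tbl.grow kw0 ch0_2 seen0_1 = some seen0_2 := by decide +kernel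

theorem grow0_3 : Fi23Fi22.tbl.grow kw0 ch0_3 seen0_2 = some seen0_3 := by decide +kernel

theorem grow0_4 : Fi23Fi22.tbl.grow kw0 ch0_4 seen0_3 = some seen0_4 := by decide +kernel

theorem grow0_5 : Fi23Fi22.tbl.grow kw0 ch0_5 seen0_4 = some seen0_5 := by decide +kernel

theorem grow0_6 : Fi23Fi22.tbl.grow kw0 ch0_6 seen0_5 = some seen0_6 := by decide +kernel

theorem grow0_7 : Fi23Fi22.tbl.grow kw0 ch0_7 seen0_6 = some seen0_7 := by decide +kernel

theorem grown0 : (Fi23Fi22.tbl.grow lev0.kw lev0.chain (addBit 0 lev0.pt)).isSome = true := by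
  change (Fi23Fi22.tbl.grow kw0 (ch0_0 ++ (ch0_1 ++ (ch0_2 ++ (ch0_3 ++ (ch0_4 ++ (ch0_5 ++ (ch0_6 ++ ch0_7))))))) (addBit 0 0)).isSome = true
  rw [Tab.grow_append grow0_0, Tab.grow_append grow0_1, Tab.grow_append grow0_2, Tab.grow_append grow0_3, Tab.grow_append grow0_4, Tab.grow_append grow0_5, Tab.grow_append grow0_6, grow0_7]
  rfl

theorem grow1_0 : Fi23Fi22.tbl.grow kw1 ch1_0 (addBit 0 8006) = some seen1_0 := by decide +kernel

theorem grow1_1 : Fi23Fi22.tbl.grow kw1 ch1_1 seen1_0 = some seen1_1 := by decide +kernel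

theorem grow1_2 : Fi23Fi22.tbl.grow kw1 ch1_2 seen1_1 = some seen1_2 := by decide +kernel

theorem grow1_3 : Fi23Fi22.tbl.grow kw1 ch1_3 seen1_2 = some seen1_3 := by decide +kernel

theorem grow1_4 : Fi23Fi22.tbl.grow kw1 ch1_4 seen1_3 = some seen1_4 := by decide +kernel

theorem grow1_5 : Fi23Fi22.tbl.grow kw1 ch1_5 seen1_4 = some seen1_5 := by decide +kernel

theorem grow1_6 : Fi23Fi22.tbl.grow kw1 ch1_6 seen1_5 = some seen1_6 := by decide +kernel

theorem grow1_7 : Fi23Fi22.tbl.grow kw1 ch1_7 seen1_6 = some seen1_7 := by decide +kernel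

theorem grown1 : (Fi23Fi22.tbl.grow lev1.kw lev1.chain (addBit 0 lev1.pt)).isSome = true := by
  change (Fi23Fi22.tbl.grow kw1 (ch1_0 ++ (ch1_1 ++ (ch1_2 ++ (ch1_3 ++ (ch1_4 ++ (ch1_5 ++ (ch1_6 ++ ch1_7))))))) (addBit 0 8006)).isSome = true
  rw [Tab.grow_append grow1_0, Tab.grow_append grow1_1, Tab.grow_append grow1_2, Tab.grow_append grow1_3, Tab.grow_append grow1_4, Tab.grow_append grow1_5, Tab.grow_append grow1_6, grow1_7]
  rfl

theorem grow2_0 : Fi23Fi22.tbl.grow kw2 ch2_0 (addBit 0 2) = some seen2_0 := by decide +kernel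

theorem grown2 : (Fi23Fi22.tbl.grow lev2.kw lev2.chain (addBit 0 lev2.pt)).isSome = true := by
  change (Fi23Fi22.tbl.grow kw2 ch2_0 (addBit 0 2)).isSome = true
  rw [grow2_0]
  rfl

theorem grow3_0 : Fi23Fi22.tbl.grow kw3 ch3_0 (addBit 0 6529) = some seen3_0 := by decide +kernel

theorem grown3 : (Fi23Fi22.tbl.grow lev3.kw lev3.chain (addBit 0 lev3.pt)).isSome = true := by
  change (Fi23Fi22.tbl.grow kw3 ch3_0 (addBit 0 6529)).isSome = true
  rw [grow3_0]
  rfl

theorem grow4_0 : Fi23Fi22.tbl.grow kw4 ch4_0 (addBit 0 5265) = some seen4_0 := by decide +kernel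

theorem grown4 : (Fi23Fi22.tbl.grow lev4.kw lev4.chain (addBit 0 lev4.pt)).isSome = true := by
  change (Fi23Fi22.tbl.grow kw4 ch4_0 (addBit 0 5265)).isSome = true
  rw [grow4_0]
  rfl

theorem grow5_0 : Fi23Fi22.tbl.grow kw5 ch5_0 (addBit 0 8003) = some seen5_0 := by decide +kernel

theorem grown5 : (Fi23Fi22.tbl.grow lev5.kw lev5.chain (addBit 0 lev5.pt)).isSome = true := by
  change (Fi23Fi22.tbl.grow kw5 ch5_0 (addBit 0 8003)).isSome = true
  rw [grow5_0]
  rfl

theorem grow6_0 : Fi23Fi22.tbl.grow kw6 ch6_0 (addBit 0 511) = some seen6_0 := by decide +kernel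

theorem grown6 : (Fi23Fi22.tbl.grow lev6.kw lev6.chain (addBit 0 lev6.pt)).isSome = true := by
  change (Fi23Fi22.tbl.grow kw6 ch6_0 (addBit 0 511)).isSome = true
  rw [grow6_0]
  rfl

theorem grow7_0 : Fi23Fi22.tbl.grow kw7 ch7_0 (addBit 0 5368) = some seen7_0 := by decide +kernel

theorem grown7 : (Fi23Fi22.tbl.grow lev7.kw lev7.chain (addBit 0 lev7.pt)).isSome = true := by
  change (Fi23Fi22.tbl.grow kw7 ch7_0 (addBit 0 5368)).isSome = true
  rw [grow7_0]
  rfl

theorem grow8_0 : Fi23Fi22.tbl.grow kw8 ch8_0 (addBit 0 14216) = some seen8_0 := by decide +kernel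

theorem grown8 : (Fi23Fi22.tbl.grow lev8.kw lev8.chain (addBit 0 lev8.pt)).isSome = true := by
  change (Fi23Fi22.tbl.grow kw8 ch8_0 (addBit 0 14216)).isSome = true
  rw [grow8_0]
  rfl

theorem grow9_0 : Fi23Fi22.tbl.grow kw9 ch9_0 (addBit 0 11278) = some seen9_0 := by decide +kernel

theorem grown9 : (Fi23Fi22.tbl.grow lev9.kw lev9.chain (addBit 0 lev9.pt)).isSome = true := by
  change (Fi23Fi22.tbl.grow kw9 ch9_0 (addBit 0 11278)).isSome = true
  rw [grow9_0]
  rfl

theorem levels_ok : Fi23Fi22.tbl.levelsOK levels [] = true := by decide +kernel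

theorem levels_grow : ∀ L ∈ levels, (Fi23Fi22.tbl.grow L.kw L.chain (addBit 0 L.pt)).isSome = true := by
  intro L hL
  simp only [levels, List.mem_cons, List.not_mem_nil, or_false] at hL
  rcases hL with rfl | rfl | rfl | rfl | rfl | rfl | rfl | rfl | rfl | rfl
  · exact grown0
  · exact grown1
  · exact grown2
  · exact grown3
  · exact grown4
  · exact grown5
  · exact grown6
  · exact grown7
  · exact grown8
  · exact grown9

theorem levels_prod : (levels.map fun L => L.chain.length + 1).prod = 4089470473293004800 := by decide +kernel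

end Cfsg.Agent.Screen.CosetEnum.Fi23Ord
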