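import Cfsg.Agent.Screen.CosetEnum.OrderGlue
import Cfsg.Agent.Screen.CosetEnum.PresFi23
import Cfsg.Agent.Screen.CosetEnum.Fi23Fi22.Checked
import Cfsg.Agent.Screen.CosetEnum.Fi23Ord.F23L4.Checked
import Cfsg.Agent.Screen.CosetEnum.Fi23Ord.F23L3.Checked
import Cfsg.Agent.Screen.CosetEnum.Fi23Ord.F23L2.Checked
import Cfsg.Agent.Screen.CosetEnum.Fi23Ord.F23L1.Checked
import Cfsg.Agent.Screen.CosetEnum.Fi23Ord.F23L0.Checked

/-!
# An upper bound on the order
-/

set_option autoImplicit false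
set_option maxRecDepth 20000

namespace Cfsg.Agent.Screen.CosetEnum.Fi23Ord

open Cfsg.Agent.Screen.CosetEnum

/-- Local to global numbering. -/
def mF23L4 : ℕ → ℕ
  | 0 => 0
  | 1 => 1
  | 2 => 2
  | 3 => 3
  | 4 => 4
  | 5 => 5
  | 6 => 6
  | 7 => 8
  | 8 => 9
  | _ => 10

/-- Local to global numbering. -/
def mF23L3 : ℕ → ℕ
  | 0 => 1
  | 1 => 2
  | 2 => 3
  | 3 => 4
  | 4 => 5
  | 5 => 6
  | 6 => 8
  | 7 => 9
  | _ => 10

/-- Local to global numbering. -/
def mF23L2 : ℕ → ℕ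
  | 0 => 2
  | 1 => 3
  | 2 => 4
  | 3 => 5
  | 4 => 6
  | 5 => 8
  | 6 => 9
  | _ => 10

/-- Local to global numbering. -/
def mF23L1 : ℕ → ℕ
  | 0 => 2
  | 1 => 3
  | 2 => 4
  | 3 => 5
  | 4 => 6
  | 5 => 8
  | _ => 10

/-- Local to global numbering. -/
def mF23L0 : ℕ → ℕ
  | 0 => 2
  | 1 => 3
  | 2 => 4
  | 3 => 5
  | 4 => 6
  | _ => 10

/-- Local to global numbering. -/
def mF23X : ℕ → ℕ
  | 0 => 0
  | 1 => 1
  | 2 => 2
  | 3 => 3
  | 4 => 4
  | 5 => 5
  | 6 => 6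
  | 7 => 7
  | 8 => 8
  | 9 => 9
  | _ => 10

theorem rels_hold {ws : List (List ℕ)} (m : ℕ → ℕ)
    (h : ws.all (fun w => decide (w.map m ∈ PresFi23.relList ++ ([] : List (List ℕ)))) = true) :
    ∀ w ∈ ws, evalW (fun x => PresFi23.gens (m x)) w = 1 := fun w hw => by
  rw [evalW_map]
  rcases List.mem_append.1 (of_decide_eq_true (List.all_eq_true.1 h w hw)) with hm | hm
  · exact PresFi23.gens_rels _ hm
  · exact (fun _ h => absurd h List.not_mem_nil) _ hm

/-- Order bound. -/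
theorem finite_and_card_le : Finite Cfsg.Spor.Fi23 ∧ Nat.card Cfsg.Spor.Fi23 ≤ 4089470473293004800 := by
  obtain ⟨f0, b0⟩ := F23L0.checked.card_le (fun x => PresFi23.gens (mF23L0 x)) (fun x => PresFi23.gens_sq _)
    (PresFi23.gens_out _ (by decide)) (rels_hold mF23L0 (by decide +kernel))
    (Subgroup.closure {g | ∃ x < F23L0.tbl.ng, g = PresFi23.gens (mF23L0 x)}) ⊥ rfl (closure_nil (fun x => PresFi23.gens (mF23L0 x))) inferInstance
  rw [Subgroup.card_bot] at b0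
  obtain ⟨f1, b1⟩ := F23L1.checked.card_le (fun x => PresFi23.gens (mF23L1 x)) (fun x => PresFi23.gens_sq _)
    (PresFi23.gens_out _ (by decide)) (rels_hold mF23L1 (by decide +kernel))
    (Subgroup.closure {g | ∃ x < F23L1.tbl.ng, g = PresFi23.gens (mF23L1 x)}) _ rfl
    (closure_chain PresFi23.gens mF23L0 mF23L1 F23L0.tbl.ng F23L1.tbl.subs (by decide +kernel)).symm f0
  obtain ⟨f2, b2⟩ := F23L2.checked.card_le (fun x => PresFi23.gens (mF23L2 x)) (fun x => PresFi23.gens_sq _)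
    (PresFi23.gens_out _ (by decide)) (rels_hold mF23L2 (by decide +kernel))
    (Subgroup.closure {g | ∃ x < F23L2.tbl.ng, g = PresFi23.gens (mF23L2 x)}) _ rfl
    (closure_chain PresFi23.gens mF23L1 mF23L2 F23L1.tbl.ng F23L2.tbl.subs (by decide +kernel)).symm f1
  obtain ⟨f3, b3⟩ := F23L3.checked.card_le (fun x => PresFi23.gens (mF23L3 x)) (fun x => PresFi23.gens_sq _)
    (PresFi23.gens_out _ (by decide)) (rels_hold mF23L3 (by decide +kernel))
    (Subgroup.closure {g | ∃ x < F23L3.tbl.ng, g = PresFi23.gens (mF23L3 x)}) _ rfl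
    (closure_chain PresFi23.gens mF23L2 mF23L3 F23L2.tbl.ng F23L3.tbl.subs (by decide +kernel)).symm f2
  obtain ⟨f4, b4⟩ := F23L4.checked.card_le (fun x => PresFi23.gens (mF23L4 x)) (fun x => PresFi23.gens_sq _)
    (PresFi23.gens_out _ (by decide)) (rels_hold mF23L4 (by decide +kernel))
    (Subgroup.closure {g | ∃ x < F23L4.tbl.ng, g = PresFi23.gens (mF23L4 x)}) _ rfl
    (closure_chain PresFi23.gens mF23L3 mF23L4 F23L3.tbl.ng F23L4.tbl.subs (by decide +kernel)).symm f3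
  obtain ⟨fT, bT⟩ := Fi23Fi22.checked.card_le PresFi23.gens PresFi23.gens_sq (PresFi23.gens_out _ (by decide))
    PresFi23.gens_rels ⊤ _ (closure_top PresFi23.gens Fi23Fi22.tbl.ng PresFi23.gens_out PresFi23.gens_top)
    (closure_chain PresFi23.gens mF23L4 (fun x => x) F23L4.tbl.ng Fi23Fi22.tbl.subs (by decide +kernel)).symm f4
  haveI := fT
  refine ⟨Finite.of_equiv _ Subgroup.topEquiv.toEquiv, ?_⟩
  rw [Subgroup.card_top] at bT
  rw [show F23L0.tbl.n = 720 from rfl] at b0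
  rw [show F23L1.tbl.n = 32 from rfl] at b1
  rw [show F23L2.tbl.n = 126 from rfl] at b2
  rw [show F23L3.tbl.n = 3159 from rfl] at b3
  rw [show F23L4.tbl.n = 14080 from rfl] at b4
  rw [show Fi23Fi22.tbl.n = 31671 from rfl] at bT
  omega

end Cfsg.Agent.Screen.CosetEnum.Fi23Ord
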