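import Cfsg.Agent.Screen.CosetEnum.Base
import Cfsg.Agent.Screen.CosetEnum.PresFi23
import Cfsg.Agent.Screen.CosetEnum.Fi23Fi22.Checked
import Cfsg.Agent.Screen.CosetEnum.Fi23Ord.Upper
import Cfsg.Agent.Screen.CosetEnum.Fi23Ord.BaseCheck

/-!
# The faithful action of degree 31671
-/

set_option autoImplicit false
set_option maxRecDepth 20000

namespace Cfsg.Agent.Screen.CosetEnum.Fi23Ord

open Cfsg.Agent.Screen.CosetEnum

instance finite_fi23 : Finite Cfsg.Spor.Fi23 := finite_and_card_le.1

theorem card_range_ge {f : Cfsg.Spor.Fi23 →* Equiv.Perm (Fin Fi23Fi22.tbl.n)}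
    (hf : ∀ x < 10, f (PresFi23.gens x) = Fi23Fi22.checked.perm x) :
    4089470473293004800 ≤ Nat.card f.range := by
  have hb := Fi23Fi22.checked.card_base f.range
    (fun x hx => MonoidHom.mem_range.2 ⟨_, hf x hx⟩) levels [] levels_ok levels_grow
  rw [List.append_nil, levels_prod] at hb
  have hr : Nat.card (fixPts f.range []) = Nat.card f.range := rfl
  have hpos : 0 < Nat.card (fixPts f.range (levels.map Level.pt).reverse) := Nat.card_pos
  rw [hr] at hb
  exact le_trans (Nat.le_mul_of_pos_right _ hpos) hb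

theorem exists_action : ∃ f : Cfsg.Spor.Fi23 →* Equiv.Perm (Fin Fi23Fi22.tbl.n),
    (∀ x < 10, f (PresFi23.gens x) = Fi23Fi22.checked.perm x) ∧ Function.Injective f := by
  obtain ⟨f, hf⟩ := PresFi23.exists_hom Fi23Fi22.checked.perm (fun x => Fi23Fi22.checked.perm_sq x)
    Fi23Fi22.checked.perm_rel
  exact ⟨f, hf, injective_of_card f (finite_and_card_le.2.trans (card_range_ge hf))⟩

/-- The action. -/
noncomputable def act : Cfsg.Spor.Fi23 →* Equiv.Perm (Fin Fi23Fi22.tbl.n) := exists_action.choose

theorem act_gens : ∀ x < 10, act (PresFi23.gens x) = Fi23Fi22.checked.perm x := exists_action.choose_spec.1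

theorem act_inj : Function.Injective act := exists_action.choose_spec.2

theorem card_eq : Nat.card Cfsg.Spor.Fi23 = 4089470473293004800 :=
  le_antisymm finite_and_card_le.2 ((card_range_ge act_gens).trans
    (Nat.card_le_card_of_surjective act.rangeRestrict act.rangeRestrict_surjective))

/-- A word fixing the base is trivial. -/
theorem eq_one {w : List ℕ} (hwl : w.all (fun x => Nat.blt x 10) = true)
    (hfix : Fi23Fi22.tbl.fixesBase (levels.map Level.pt).reverse w = true) : evalW PresFi23.gens w = 1 :=
  Fi23Fi22.checked.eq_one_of_fixesBase act_inj PresFi23.gens act_gens levels levels_ok levels_grow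
    (by rw [card_eq, levels_prod]) hwl hfix

end Cfsg.Agent.Screen.CosetEnum.Fi23Ord
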