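import Cfsg.Prelude.Def_SporadicB
import Cfsg.Agent.Screen.CosetEnum.Fi23Ord.Action
import Cfsg.Agent.Screen.CosetEnum.Fi22Ord.Main

/-!
# The point stabiliser in Fi23 is a nonsplit double cover of Fi22
-/

set_option autoImplicit false
set_option maxRecDepth 20000

namespace Cfsg.Agent.Screen.CosetEnum.Fi23Ord

open Cfsg.Agent.Screen.CosetEnum

/-- Fi22 numbering to Fi23 numbering. -/
def m22 : ℕ → ℕ
  | 0 => 0
  | 1 => 1
  | 2 => 2
  | 3 => 3
  | 4 => 4
  | 5 => 5
  | 6 => 6
  | 7 => 8
  | 8 => 9
  | _ => 10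

/-- Word of the central involution. -/
def zw : List ℕ := pw 9 [8, 6, 5, 4, 3, 2, 1]

/-- The central involution. -/
noncomputable def zel : Cfsg.Spor.Fi23 := evalW PresFi23.gens zw

/-- The point stabiliser. -/
def stab : Subgroup Cfsg.Spor.Fi23 :=
  Subgroup.closure {g | ∃ w ∈ Fi23Fi22.tbl.subs, g = evalW PresFi23.gens w}

theorem gens_mem {x : ℕ} (hx : x < 9) : PresFi23.gens (m22 x) ∈ stab :=
  Subgroup.subset_closure ⟨[m22 x],
    of_decide_eq_true (List.all_eq_true.1
      (show (List.range 9).all (fun x => decide ([m22 x] ∈ Fi23Fi22.tbl.subs)) = true by decide +kernel)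
      x (List.mem_range.2 hx)), by simp [evalW]⟩

theorem gens_mem' (x : ℕ) : PresFi23.gens (m22 x) ∈ stab := by
  rcases Nat.lt_or_ge x 9 with hx | hx
  · exact gens_mem hx
  · obtain ⟨k, rfl⟩ : ∃ k, x = k + 9 := ⟨x - 9, by omega⟩
    rw [show PresFi23.gens (m22 (k + 9)) = 1 from rfl]
    exact one_mem _

/-- Generators of the stabiliser. -/
noncomputable def sg (x : ℕ) : stab := ⟨PresFi23.gens (m22 x), gens_mem' x⟩

theorem sg_sq (x : ℕ) : sg x * sg x = 1 := Subtype.ext (PresFi23.gens_sq _)

theorem sg_val (w : List ℕ) : ((evalW sg w : stab) : Cfsg.Spor.Fi23) = evalW PresFi23.gens (w.map m22) := by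
  induction w with
  | nil => simp [evalW]
  | cons a w ih => simp [evalW, ih, sg]

theorem sg_top : Subgroup.closure (Set.range sg) = ⊤ := by
  apply Subgroup.map_injective stab.subtype_injective
  rw [MonoidHom.map_closure, ← MonoidHom.range_eq_map, Subgroup.range_subtype]
  refine le_antisymm ((Subgroup.closure_le _).2 ?_) ((Subgroup.closure_le _).2 ?_)
  · rintro _ ⟨_, ⟨x, rfl⟩, rfl⟩
    exact gens_mem' x
  · rintro _ ⟨w, hw, rfl⟩
    obtain ⟨x, -, rfl⟩ := List.mem_map.1 (of_decide_eq_true (List.all_eq_true.1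
      (show Fi23Fi22.tbl.subs.all (fun w => decide (w ∈ (List.range 9).map fun x => [m22 x])) = true by
        decide +kernel) w hw))
    exact Subgroup.subset_closure ⟨sg x, ⟨x, rfl⟩, by simp [evalW, sg]⟩

theorem ne_one_of_moves {w : List ℕ} (hwl : w.all (fun x => Nat.blt x 10) = true) (q : ℕ)
    (hq : q < Fi23Fi22.tbl.n) (hmv : Nat.beq (Fi23Fi22.tbl.app w q) q = false) : evalW PresFi23.gens w ≠ 1 := by
  intro h
  have hw : ∀ x ∈ w, x < 10 := fun x hx => by simpa [Nat.blt_eq] using List.all_eq_true.1 hwl x hx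
  have hfW : ∀ v : List ℕ, (∀ y ∈ v, y < 10) →
      act (evalW PresFi23.gens v) = evalW Fi23Fi22.checked.perm v := by
    intro v
    induction v with
    | nil => simp [evalW]
    | cons a v ih =>
      intro hv
      rw [evalW, evalW, map_mul, ih (fun y hy => hv y (List.mem_cons_of_mem _ hy)), act_gens a (hv a List.mem_cons_self)]
  have h2 := congrArg (fun g => ((act g ⟨q, hq⟩ : Fin Fi23Fi22.tbl.n) : ℕ)) h
  simp only [map_one, Equiv.Perm.one_apply, hfW w hw, Fi23Fi22.checked.app_eq w hw] at h2
  rw [h2] at hmv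
  exact absurd hmv (by simp)

theorem zel_sq : zel * zel = 1 := by
  rw [zel, ← evalW_append]
  exact eq_one (by decide +kernel) (by decide +kernel)

theorem zel_ne_one : zel ≠ 1 := by
  refine ne_one_of_moves (w := zw) (by decide +kernel) 1 (by decide +kernel) (by decide +kernel)

theorem zel_comm_gens {x : ℕ} (hx : x < 9) : zel * PresFi23.gens (m22 x) = PresFi23.gens (m22 x) * zel := by
  have hl := List.all_eq_true.1
    (show (List.range 9).all (fun x => ([m22 x] ++ zw ++ [m22 x] ++ zw).all (fun y => Nat.blt y 10) &&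
      Fi23Fi22.tbl.fixesBase (levels.map Level.pt).reverse ([m22 x] ++ zw ++ [m22 x] ++ zw)) = true by decide +kernel)
    x (List.mem_range.2 hx)
  rw [Bool.and_eq_true] at hl
  have h := eq_one hl.1 hl.2
  simp only [evalW_append, evalW, one_mul] at h
  have hz : zel⁻¹ = zel := inv_eq_of_mul_eq_one_right zel_sq
  have hg := inv_eq_of_mul_eq_one_right (PresFi23.gens_sq (m22 x))
  calc zel * PresFi23.gens (m22 x) = (zel * PresFi23.gens (m22 x))⁻¹ := by
        refine (inv_eq_of_mul_eq_one_right ?_).symm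
        simpa only [zel, mul_assoc] using h
    _ = _ := by rw [mul_inv_rev, hz, hg]

theorem stab_le_centralizer : stab ≤ Subgroup.centralizer {zel} := by
  refine (Subgroup.closure_le _).2 ?_
  rintro _ ⟨w, hw, rfl⟩
  obtain ⟨x, hx, rfl⟩ := List.mem_map.1 (of_decide_eq_true (List.all_eq_true.1
    (show Fi23Fi22.tbl.subs.all (fun w => decide (w ∈ (List.range 9).map fun x => [m22 x])) = true by
      decide +kernel) w hw))
  rw [SetLike.mem_coe, Subgroup.mem_centralizer_iff]
  rintro _ rfl
  simpa [evalW] using zel_comm_gens (List.mem_range.1 hx)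

theorem zel_mem : zel ∈ stab := by
  rw [zel, show zw = (pw 9 [7, 6, 5, 4, 3, 2, 1]).map m22 by decide +kernel, ← sg_val]
  exact Subtype.prop _

/-- The central involution as an element of the stabiliser. -/
noncomputable def zs : stab := ⟨zel, zel_mem⟩

theorem zs_central : zs ∈ Subgroup.center stab :=
  Subgroup.mem_center_iff.2 fun g => Subtype.ext
    ((Subgroup.mem_centralizer_iff.1 (stab_le_centralizer g.2) zel rfl).symm)

theorem zs_sq : zs * zs = 1 := Subtype.ext zel_sq

theorem zs_ne_one : zs ≠ 1 := fun h => zel_ne_one (congrArg Subtype.val h)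

theorem card_zpowers : Nat.card (Subgroup.zpowers zs) = 2 := by
  rw [Nat.card_zpowers]
  exact orderOf_eq_prime (by rw [pow_two, zs_sq]) zs_ne_one

theorem stab_index : stab.index = 31671 := by
  obtain ⟨e, -, -⟩ := Fi23Fi22.checked.exists_equiv PresFi23.gens PresFi23.gens_sq PresFi23.gens_out
    PresFi23.gens_rels PresFi23.gens_top stab rfl act act_gens
  exact (Nat.card_congr e.symm).trans (Nat.card_fin _)

theorem card_stab : Nat.card stab = 129123503308800 := by
  have h := stab.index_mul_card
  rw [stab_index, card_eq] at h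
  omega

/-- Each Fi22 relator holds modulo the central involution. -/
theorem rel_mod : ∀ w ∈ PresFi22.relList, evalW sg w ∈ Subgroup.zpowers zs := by
  intro w hw
  have hl := List.all_eq_true.1
    (show PresFi22.relList.all (fun w =>
      ((w.map m22).all (fun y => Nat.blt y 10) && Fi23Fi22.tbl.fixesBase (levels.map Level.pt).reverse (w.map m22)) ||
      ((w.map m22 ++ zw).all (fun y => Nat.blt y 10) &&
        Fi23Fi22.tbl.fixesBase (levels.map Level.pt).reverse (w.map m22 ++ zw))) = true by decide +kernel) w hw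
  rw [Bool.or_eq_true, Bool.and_eq_true, Bool.and_eq_true] at hl
  rcases hl with ⟨h1, h2⟩ | ⟨h1, h2⟩
  · have h := eq_one h1 h2
    rw [show evalW sg w = 1 from Subtype.ext ((sg_val w).trans h)]
    exact one_mem _
  · have h := eq_one h1 h2
    rw [evalW_append, ← sg_val] at h
    rw [show evalW sg w = zs⁻¹ from eq_inv_of_mul_eq_one_right (Subtype.ext h)]
    exact inv_mem (Subgroup.mem_zpowers zs)

theorem normal_zpowers : (Subgroup.zpowers zs).Normal where
  conj_mem n hn g := by
    have hc : n ∈ Subgroup.center stab := (Subgroup.zpowers_le.2 zs_central) hn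
    rw [Subgroup.mem_center_iff.1 hc g, mul_inv_cancel_right]
    exact hn

theorem center_eq : Subgroup.center stab = Subgroup.zpowers zs ∧
    Nonempty (stab ⧸ Subgroup.center stab ≃* Cfsg.Spor.Fi22) := by
  haveI := normal_zpowers
  set π := QuotientGroup.mk' (Subgroup.zpowers zs) with hπdef
  have hπ : Function.Surjective π := QuotientGroup.mk'_surjective _
  obtain ⟨ψ, hψ⟩ := PresFi22.exists_hom (σ := fun x => π (sg x))
    (fun x => by rw [← map_mul, sg_sq, map_one])
    (fun w hw => by rw [← evalW_hom π]; exact (QuotientGroup.eq_one_iff _).2 (rel_mod w hw))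
  have hsur : Function.Surjective ψ := by
    rw [← MonoidHom.range_eq_top, eq_top_iff, ← MonoidHom.range_eq_top.2 hπ, MonoidHom.range_eq_map π, ← sg_top,
      MonoidHom.map_closure, Subgroup.closure_le]
    rintro _ ⟨_, ⟨x, rfl⟩, rfl⟩
    rcases Nat.lt_or_ge x 9 with hx | hx
    · exact ⟨_, hψ x hx⟩
    · obtain ⟨k, rfl⟩ : ∃ k, x = k + 9 := ⟨x - 9, by omega⟩
      rw [show sg (k + 9) = 1 from Subtype.ext rfl, map_one]
      exact one_mem _
  obtain ⟨hsimple, h22⟩ := Fi22Ord.isSimple_and_card
  haveI : Finite Cfsg.Spor.Fi22 := Nat.finite_of_card_ne_zero (by rw [h22]; norm_num)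
  have hcardQ : Nat.card (stab ⧸ Subgroup.zpowers zs) = 64561751654400 := by
    have h := (Subgroup.zpowers zs).index_mul_card
    rw [card_zpowers, card_stab] at h
    change (Subgroup.zpowers zs).index = _
    omega
  have hbij : Function.Bijective ψ := hsur.bijective_of_nat_card_le (by rw [h22, hcardQ])
  have eψ : Cfsg.Spor.Fi22 ≃* stab ⧸ Subgroup.zpowers zs := MulEquiv.ofBijective ψ hbij
  haveI : IsSimpleGroup Cfsg.Spor.Fi22 := hsimple
  haveI : Nontrivial (stab ⧸ Subgroup.zpowers zs) := eψ.symm.toEquiv.nontrivial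
  haveI : IsSimpleGroup (stab ⧸ Subgroup.zpowers zs) :=
    IsSimpleGroup.isSimpleGroup_of_surjective ψ hsur
  have hnorm : ((Subgroup.center stab).map π).Normal :=
    Subgroup.Normal.map inferInstance π hπ
  have hker : π.ker = Subgroup.zpowers zs := QuotientGroup.ker_mk' _
  have hc : Subgroup.center stab = Subgroup.zpowers zs := by
    rcases hnorm.eq_bot_or_eq_top with h | h
    · refine le_antisymm ?_ (Subgroup.zpowers_le.2 zs_central)
      rwa [Subgroup.map_eq_bot_iff, hker] at h
    · exfalso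
      have htop : Subgroup.center stab = ⊤ := by
        rw [eq_top_iff]
        intro g _
        obtain ⟨c, hc, hcg⟩ : π g ∈ (Subgroup.center stab).map π := h ▸ Subgroup.mem_top _
        have hk : c⁻¹ * g ∈ Subgroup.center stab := Subgroup.zpowers_le.2 zs_central
          (hker ▸ MonoidHom.mem_ker.2 (by rw [map_mul, map_inv, hcg, inv_mul_cancel]))
        have := mul_mem hc hk
        rwa [mul_inv_cancel_left] at this
      have hcomm : sg 0 * sg 1 = sg 1 * sg 0 :=
        (Subgroup.mem_center_iff.1 (htop ▸ Subgroup.mem_top (sg 1)) (sg 0))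
      refine ne_one_of_moves (w := [0, 1, 0, 1]) (by decide +kernel) 6 (by decide +kernel) (by decide +kernel) ?_
      have h2 := congrArg Subtype.val hcomm
      simp only [Subgroup.coe_mul, sg, m22] at h2
      simp only [evalW, one_mul]
      rw [← h2, mul_assoc (PresFi23.gens 0), PresFi23.gens_sq, mul_one, PresFi23.gens_sq]
  exact ⟨hc, ⟨(QuotientGroup.quotientMulEquivOfEq hc).trans eψ.symm⟩⟩

theorem mem_iff_even (L : Subgroup stab) (hL : L.index = 2) (hout : ∀ x < 9, sg x ∉ L) :
    ∀ w : List ℕ, (∀ x ∈ w, x < 9) → (evalW sg w ∈ L ↔ w.length % 2 = 0) := by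
  intro w
  induction w with
  | nil => simp [evalW]
  | cons a w ih =>
    intro hw
    rw [evalW, Subgroup.mul_mem_iff_of_index_two hL, ih (fun x hx => hw x (List.mem_cons_of_mem _ hx)),
      iff_false_intro (hout a (hw a List.mem_cons_self)), iff_false, List.length_cons]
    omega

theorem nonsplit (L : Subgroup stab) : ¬ (Subgroup.center stab).IsComplement' L := by
  intro hcompl
  rw [center_eq.1] at hcompl
  have hL : L.index = 2 := by rw [hcompl.index_eq_card, card_zpowers]
  have hzL : zs ∉ L := fun h =>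
    zs_ne_one (Subgroup.mem_bot.1 (hcompl.disjoint.eq_bot ▸ Subgroup.mem_inf.2 ⟨Subgroup.mem_zpowers _, h⟩))
  have hstep : ∀ x y : ℕ, x < 9 → y < 9 →
      decide ([x, y, x, y, x, y] ∈ PresFi22.relList.take 36) = true → (sg x ∈ L ↔ sg y ∈ L) := by
    intro x y hx hy hd
    have hmem := of_decide_eq_true hd
    have hl := List.all_eq_true.1
      (show (PresFi22.relList.take 36).all (fun w => (w.map m22).all (fun y => Nat.blt y 10) &&
        Fi23Fi22.tbl.fixesBase (levels.map Level.pt).reverse (w.map m22)) = true by decide +kernel) _ hmem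
    rw [Bool.and_eq_true] at hl
    have h1 : evalW sg [x, y, x, y, x, y] = 1 := Subtype.ext ((sg_val _).trans (eq_one hl.1 hl.2))
    have h2 : evalW sg [x, y, x, y, x, y] ∈ L := h1 ▸ one_mem _
    simp only [evalW, one_mul, Subgroup.mul_mem_iff_of_index_two hL] at h2
    tauto
  have e1 := hstep 1 0 (by omega) (by omega) (by decide +kernel)
  have e2 := hstep 2 1 (by omega) (by omega) (by decide +kernel)
  have e3 := hstep 3 2 (by omega) (by omega) (by decide +kernel)
  have e4 := hstep 4 3 (by omega) (by omega) (by decide +kernel)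
  have e7 := hstep 7 3 (by omega) (by omega) (by decide +kernel)
  have e5 := hstep 5 4 (by omega) (by omega) (by decide +kernel)
  have e8 := hstep 8 7 (by omega) (by omega) (by decide +kernel)
  have e6 := hstep 6 5 (by omega) (by omega) (by decide +kernel)
  have hall : ∀ x < 9, (sg x ∈ L ↔ sg 0 ∈ L) := by
    intro x hx
    obtain rfl | rfl | rfl | rfl | rfl | rfl | rfl | rfl | rfl :
        x = 0 ∨ x = 1 ∨ x = 2 ∨ x = 3 ∨ x = 4 ∨ x = 5 ∨ x = 6 ∨ x = 7 ∨ x = 8 := by omega
    · exact Iff.rfl
    · exact e1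
    · exact e2.trans e1
    · exact e3.trans (e2.trans e1)
    · exact e4.trans (e3.trans (e2.trans e1))
    · exact e5.trans (e4.trans (e3.trans (e2.trans e1)))
    · exact e6.trans (e5.trans (e4.trans (e3.trans (e2.trans e1))))
    · exact e7.trans (e3.trans (e2.trans e1))
    · exact e8.trans (e7.trans (e3.trans (e2.trans e1)))
  by_cases h0 : sg 0 ∈ L
  · refine hzL (show zs ∈ L from ?_)
    suffices h : L = ⊤ by rw [h]; exact Subgroup.mem_top _
    rw [eq_top_iff, ← sg_top, Subgroup.closure_le]
    rintro _ ⟨x, rfl⟩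
    rcases Nat.lt_or_ge x 9 with hx | hx
    · exact (hall x hx).2 h0
    · obtain ⟨k, rfl⟩ : ∃ k, x = k + 9 := ⟨x - 9, by omega⟩
      rw [show sg (k + 9) = 1 from Subtype.ext rfl]
      exact one_mem _
  · have hiff := mem_iff_even L hL (fun x hx h => h0 ((hall x hx).1 h))
      (pw 9 [7, 5, 4, 3, 2, 1, 0]) (by decide +kernel)
    have h1 : evalW sg (pw 9 [7, 5, 4, 3, 2, 1, 0]) = 1 :=
      Subtype.ext ((sg_val _).trans (eq_one (by decide +kernel) (by decide +kernel)))
    rw [h1] at hiff
    have := hiff.1 (one_mem _)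
    rw [show (pw 9 [7, 5, 4, 3, 2, 1, 0]).length = 63 from rfl] at this
    omega

theorem isNonsplitDoubleCover : Cfsg.IsNonsplitDoubleCover stab Cfsg.Spor.Fi22 :=
  ⟨by rw [center_eq.1, card_zpowers], center_eq.2, nonsplit⟩

end Cfsg.Agent.Screen.CosetEnum.Fi23Ord
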