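import Cfsg.Agent.Screen.CosetEnum.Simple
import Cfsg.Agent.Screen.CosetEnum.Fi23Fi22.Orbits
import Cfsg.Agent.Screen.CosetEnum.Fi23Ord.Action
import Cfsg.Agent.Screen.CosetEnum.Fi23Ord.F23X.Checked

/-!
# Simplicity and order
-/

set_option autoImplicit false
set_option maxRecDepth 20000

namespace Cfsg.Agent.Screen.CosetEnum.Fi23Ord

open Cfsg.Agent.Screen.CosetEnum

/-- The test word. -/
def xw : List ℕ := [4, 5, 0, 3, 4, 7, 0, 6, 5, 1, 0, 8, 2]

/-- The orbits. -/
def orbs : List (ℕ × ℕ) := [(1, Fi23Fi22.orb0), (52, Fi23Fi22.orb1)]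

theorem prim : Fi23Fi22.tbl.primOK orbs = true := by decide +kernel

theorem xfix : Fi23Fi22.tbl.fixesBase (levels.map Level.pt).reverse (pw 17 xw) = true := by decide +kernel

/-- The presented group is simple of the expected order. -/
theorem isSimple_and_card : IsSimpleGroup Cfsg.Spor.Fi23 ∧ Nat.card Cfsg.Spor.Fi23 = 4089470473293004800 := by
  have hf := act_gens
  have hinj := act_inj
  have hcard := card_eq
  obtain ⟨H, hHdef⟩ : ∃ H : Subgroup Cfsg.Spor.Fi23,
      H = Subgroup.closure {g | ∃ w ∈ Fi23Fi22.tbl.subs, g = evalW PresFi23.gens w} := ⟨_, rfl⟩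
  obtain ⟨e, he0, he⟩ := Fi23Fi22.checked.exists_equiv PresFi23.gens PresFi23.gens_sq PresFi23.gens_out PresFi23.gens_rels
    PresFi23.gens_top H hHdef act hf
  have hfW : ∀ w : List ℕ, (∀ y ∈ w, y < 10) → act (evalW PresFi23.gens w) = evalW Fi23Fi22.checked.perm w := by
    intro w
    induction w with
    | nil => simp [evalW]
    | cons a w ih =>
      intro hw
      rw [evalW, evalW, map_mul, ih (fun y hy => hw y (List.mem_cons_of_mem _ hy)), hf a (hw a List.mem_cons_self)]
  have hxl : ∀ y ∈ xw, y < 10 := by decide +kernel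
  have hx : evalW PresFi23.gens xw ^ 17 ^ 1 = 1 := by
    rw [show 17 ^ 1 = 17 * 1 from rfl, pow_mul, ← evalW_pw, eq_one (by decide +kernel) xfix, one_pow]
  have hx1 : evalW PresFi23.gens xw ≠ 1 := by
    intro h
    have h2 := congrArg (fun g => ((act g ⟨0, by decide +kernel⟩ : Fin Fi23Fi22.tbl.n) : ℕ)) h
    simp only [map_one, Equiv.Perm.one_apply, hfW _ hxl, Fi23Fi22.checked.app_eq _ hxl] at h2
    exact absurd h2 (by decide +kernel)
  have hHcard : Nat.card Cfsg.Spor.Fi23 = Fi23Fi22.tbl.n * Nat.card H := by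
    rw [← H.index_mul_card, Subgroup.index, ← Nat.card_congr e, Nat.card_fin]
  refine ⟨Fi23Fi22.checked.isSimple PresFi23.gens hHdef hf hinj e he0 he orbs ?_ prim (by decide +kernel) 17 1
    (by norm_num) (by decide +kernel) ?_ _ hx hx1 ?_, hcard⟩
  · intro o ho
    simp only [orbs, List.mem_cons, List.not_mem_nil, or_false] at ho
    rcases ho with rfl | rfl
    · exact ⟨_, _, Fi23Fi22.orbit0⟩
    · exact ⟨_, _, Fi23Fi22.orbit1⟩
  · rw [hcard, show Fi23Fi22.tbl.n = 31671 from rfl] at hHcard
    omega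
  · intro N hN hxN
    haveI := hN
    set π := QuotientGroup.mk' N
    have hπ : Function.Surjective π := QuotientGroup.mk'_surjective N
    obtain ⟨fQ, bQ⟩ := F23X.checked.card_le (fun y => π (PresFi23.gens y))
      (fun y => by rw [← map_mul, PresFi23.gens_sq, map_one])
      (by rw [PresFi23.gens_out _ (by decide), map_one])
      (fun w hw => by
        rw [← evalW_hom π]
        have h : w ∈ PresFi23.relList ∨ w = xw :=
          of_decide_eq_true (List.all_eq_true.1
            (show F23X.tbl.rels.all (fun w => decide (w ∈ PresFi23.relList ∨ w = xw)) = true by decide +kernel) w hw)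
        rcases h with h | rfl
        · rw [PresFi23.gens_rels _ h, map_one]
        · exact (QuotientGroup.eq_one_iff _).2 hxN)
      ⊤ ⊥ (closure_top _ F23X.tbl.ng (fun y hy => by rw [PresFi23.gens_out y hy, map_one])
        (by rw [Set.range_comp' π PresFi23.gens, ← MonoidHom.map_closure, PresFi23.gens_top]
            exact Subgroup.map_top_of_surjective _ hπ))
      (closure_nil _) inferInstance
    rw [Subgroup.card_bot, Subgroup.card_top, show F23X.tbl.n = 1 from rfl] at bQ
    have hpos : 0 < Nat.card (Cfsg.Spor.Fi23 ⧸ N) := Nat.card_pos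
    exact Subgroup.index_eq_one.1 (show Nat.card (Cfsg.Spor.Fi23 ⧸ N) = 1 by omega)

end Cfsg.Agent.Screen.CosetEnum.Fi23Ord
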