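import Cfsg.Prelude.Def_Sporadic
import Cfsg.Agent.Screen.CosetEnum.Fi23Ord.Main
import Cfsg.Agent.Screen.CosetEnum.Fi23Ord.DoubleCover

/-!
# The class of 31671 transpositions of Fi23
-/

set_option autoImplicit false
set_option maxRecDepth 20000

namespace Cfsg.Agent.Screen.CosetEnum.Fi23Ord

open Cfsg.Agent.Screen.CosetEnum

theorem cover_of_mulEquiv {A B K : Type*} [Group A] [Group B] [Group K] (e : A ≃* B)
    (h : Cfsg.IsNonsplitDoubleCover A K) : Cfsg.IsNonsplitDoubleCover B K := by
  obtain ⟨hc, ⟨q⟩, hns⟩ := h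
  have hmap : (Subgroup.center A).map e.toMonoidHom = Subgroup.center B := by
    ext b
    simp only [Subgroup.mem_map, MulEquiv.coe_toMonoidHom, Subgroup.mem_center_iff]
    constructor
    · rintro ⟨a, ha, rfl⟩ g
      rw [← e.apply_symm_apply g, ← map_mul, ← map_mul, ha]
    · intro hb
      exact ⟨e.symm b, fun g => e.injective (by rw [map_mul, map_mul, e.apply_symm_apply, hb]), e.apply_symm_apply b⟩
  refine ⟨?_, ⟨(QuotientGroup.congr _ _ e hmap).symm.trans q⟩, fun L hL => hns (L.comap e.toMonoidHom) ?_⟩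
  · rw [← hmap]
    exact (Nat.card_congr (Subgroup.equivMapOfInjective _ _ e.injective).toEquiv).symm.trans hc
  · rw [Subgroup.IsComplement', Subgroup.isComplement_iff_existsUnique] at hL ⊢
    intro a
    obtain ⟨⟨⟨x, hx⟩, ⟨y, hy⟩⟩, hxy, huniq⟩ := hL (e a)
    obtain ⟨x', hx', rfl⟩ := Subgroup.mem_map.1 (hmap.symm ▸ hx : x ∈ (Subgroup.center A).map e.toMonoidHom)
    have hy' : e.symm y ∈ L.comap e.toMonoidHom := by
      simpa [Subgroup.mem_comap] using hy
    refine ⟨(⟨x', hx'⟩, ⟨e.symm y, hy'⟩), ?_, ?_⟩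
    · apply e.injective
      simpa using hxy
    · rintro ⟨⟨u, hu⟩, ⟨v, hv⟩⟩ huv
      have h := huniq (⟨e u, hmap ▸ Subgroup.mem_map_of_mem e.toMonoidHom hu⟩, ⟨e v, hv⟩)
        (show e u * e v = e a by rw [← map_mul]; exact congrArg e huv)
      refine Prod.ext (Subtype.ext (e.injective (congrArg (fun p => (p.1 : B)) h))) (Subtype.ext ?_)
      exact (e.symm_apply_apply v).symm.trans (congrArg e.symm (congrArg (fun p => (p.2 : B)) h))

/-- A word carrying the base coset to the first suborbit. -/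
def w0 : List ℕ := [7]

/-- A word carrying the base coset to the second suborbit. -/
def w1 : List ℕ := [7, 6, 5, 4, 3, 2, 8, 3, 4, 5, 6, 7]

theorem act_word (v : List ℕ) (hv : v.all (fun x => Nat.blt x 10) = true) (c : Fin Fi23Fi22.tbl.n) :
    ((act (evalW PresFi23.gens v) c : Fin Fi23Fi22.tbl.n) : ℕ) = Fi23Fi22.tbl.app v c := by
  have hw : ∀ x ∈ v, x < 10 := fun x hx => by simpa [Nat.blt_eq] using List.all_eq_true.1 hv x hx
  have hfW : ∀ u : List ℕ, (∀ y ∈ u, y < 10) →
      act (evalW PresFi23.gens u) = evalW Fi23Fi22.checked.perm u := by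
    intro u
    induction u with
    | nil => simp [evalW]
    | cons a u ih =>
      intro hu
      rw [evalW, evalW, map_mul, ih (fun y hy => hu y (List.mem_cons_of_mem _ hy)), act_gens a (hu a List.mem_cons_self)]
  rw [hfW v hw, Fi23Fi22.checked.app_eq v hw]

theorem bit_of_countAll {U n : ℕ} (h : Nat.beq (countAll U n ((n + 255) / 256)) n = true) :
    ∀ c < n, bit U c = true := by
  have h2 := Nat.eq_of_beq_eq_true h
  rw [countAll_eq, show Nat.min n (256 * ((n + 255) / 256)) = n by simp only [Nat.min_def]; split <;> omega,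
    countGo_eq] at h2
  have h3 := Finset.eq_of_subset_of_card_le (Finset.filter_subset (fun c => bit U c = true) (Finset.range n))
    (le_of_eq (by rw [Finset.card_range, h2]))
  intro c hc
  exact (Finset.mem_filter.1 (h3.symm ▸ Finset.mem_range.2 hc : c ∈ (Finset.range n).filter fun c => bit U c = true)).2

theorem decomp (g : Cfsg.Spor.Fi23) : g ∈ stab ∨ ∃ w ∈ [w0, w1], ∃ h₁ ∈ stab, ∃ h₂ ∈ stab,
    g = h₁ * evalW PresFi23.gens w * h₂ := by
  obtain ⟨e, he0, he⟩ := Fi23Fi22.checked.exists_equiv PresFi23.gens PresFi23.gens_sq PresFi23.gens_out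
    PresFi23.gens_rels PresFi23.gens_top stab rfl act act_gens
  set z0 : Fin Fi23Fi22.tbl.n := ⟨0, Fi23Fi22.checked.pos⟩
  have hmem : ∀ x : Cfsg.Spor.Fi23, act x z0 = z0 → x ∈ stab := by
    intro x hx
    have h := he x z0
    rw [hx, he0, MulAction.Quotient.smul_mk, smul_eq_mul, mul_one, QuotientGroup.eq, mul_one] at h
    simpa using inv_mem h
  have hU : ∀ c : Fin Fi23Fi22.tbl.n, (c : ℕ) = 0 ∨ bit Fi23Fi22.orb0 c = true ∨ bit Fi23Fi22.orb1 c = true := by
    intro c
    have hp := prim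
    simp only [Tab.primOK, Bool.and_eq_true] at hp
    have hcov : bit (orbs.foldr (fun o U => Nat.lor o.2 U) 1) c = true := bit_of_countAll hp.2 c c.isLt
    rw [bit_foldr] at hcov
    simpa [orbs] using hcov
  rcases hU (act g z0) with h0 | h0 | h0
  · exact Or.inl (hmem g (Fin.ext h0))
  · obtain ⟨k, hk, -, hiff⟩ := Fi23Fi22.checked.orbit PresFi23.gens rfl act_gens e he Fi23Fi22.orbit0
    obtain ⟨⟨h, hh⟩, hhc⟩ := (hiff (act g z0)).2 h0
    change h • e k = e (act g z0) at hhc
    rw [he] at hhc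
    have hw : act (evalW PresFi23.gens w0) z0 = k := Fin.ext (by
      rw [act_word w0 (by decide +kernel), hk]; decide +kernel)
    refine Or.inr ⟨w0, by simp, h, hh, (h * evalW PresFi23.gens w0)⁻¹ * g, hmem _ ?_, by group⟩
    rw [map_mul, Equiv.Perm.mul_apply, ← e.injective hhc, ← hw, ← Equiv.Perm.mul_apply, ← Equiv.Perm.mul_apply,
      ← map_mul, ← map_mul, mul_assoc, inv_mul_cancel, map_one, Equiv.Perm.one_apply]
  · obtain ⟨k, hk, -, hiff⟩ := Fi23Fi22.checked.orbit PresFi23.gens rfl act_gens e he Fi23Fi22.orbit1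
    obtain ⟨⟨h, hh⟩, hhc⟩ := (hiff (act g z0)).2 h0
    change h • e k = e (act g z0) at hhc
    rw [he] at hhc
    have hw : act (evalW PresFi23.gens w1) z0 = k := Fin.ext (by
      rw [act_word w1 (by decide +kernel), hk]; decide +kernel)
    refine Or.inr ⟨w1, by simp, h, hh, (h * evalW PresFi23.gens w1)⁻¹ * g, hmem _ ?_, by group⟩
    rw [map_mul, Equiv.Perm.mul_apply, ← e.injective hhc, ← hw, ← Equiv.Perm.mul_apply, ← Equiv.Perm.mul_apply,
      ← map_mul, ← map_mul, mul_assoc, inv_mul_cancel, map_one, Equiv.Perm.one_apply]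

theorem centralizer_eq : Subgroup.centralizer {zel} = stab := by
  refine le_antisymm (fun g hg => ?_) stab_le_centralizer
  rcases decomp g with h | ⟨w, hw, h₁, hh₁, h₂, hh₂, rfl⟩
  · exact h
  · exfalso
    have hwc : evalW PresFi23.gens w ∈ Subgroup.centralizer {zel} := by
      have := mul_mem (mul_mem (inv_mem (stab_le_centralizer hh₁)) hg) (inv_mem (stab_le_centralizer hh₂))
      simpa [mul_assoc] using this
    have hcomm := Subgroup.mem_centralizer_iff.1 hwc zel rfl
    simp only [List.mem_cons, List.not_mem_nil, or_false] at hw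
    rcases hw with rfl | rfl
    · refine ne_one_of_moves (w := w0 ++ zw ++ w0.reverse ++ zw) (by decide +kernel) 0 (by decide +kernel)
        (by decide +kernel) ?_
      simp only [evalW_append, evalW_reverse PresFi23.gens_sq]
      change zel * ((evalW PresFi23.gens w0)⁻¹ * zel * evalW PresFi23.gens w0) = 1
      rw [mul_assoc (evalW PresFi23.gens w0)⁻¹, hcomm, inv_mul_cancel_left]
      exact zel_sq
    · refine ne_one_of_moves (w := w1 ++ zw ++ w1.reverse ++ zw) (by decide +kernel) 1 (by decide +kernel)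
        (by decide +kernel) ?_
      simp only [evalW_append, evalW_reverse PresFi23.gens_sq]
      change zel * ((evalW PresFi23.gens w1)⁻¹ * zel * evalW PresFi23.gens w1) = 1
      rw [mul_assoc (evalW PresFi23.gens w1)⁻¹, hcomm, inv_mul_cancel_left]
      exact zel_sq

theorem pair_rel (g : Cfsg.Spor.Fi23) :
    (zel * (g * zel * g⁻¹)) ^ 2 = 1 ∨ (zel * (g * zel * g⁻¹)) ^ 3 = 1 := by
  have hfix : ∀ h ∈ stab, h * zel * h⁻¹ = zel := fun h hh => by
    rw [← Subgroup.mem_centralizer_iff.1 (stab_le_centralizer hh) zel rfl, mul_inv_cancel_right]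
  rcases decomp g with h | ⟨w, hw, h₁, hh₁, h₂, hh₂, rfl⟩
  · left
    rw [hfix g h, zel_sq, one_pow]
  · have hprod : zel * (h₁ * evalW PresFi23.gens w * h₂ * zel * (h₁ * evalW PresFi23.gens w * h₂)⁻¹) =
        h₁ * evalW PresFi23.gens ((w.reverse ++ zw ++ w) ++ zw) * h₁⁻¹ := by
      simp only [evalW_append, evalW_reverse PresFi23.gens_sq]
      rw [show evalW PresFi23.gens zw = zel from rfl]
      calc zel * (h₁ * evalW PresFi23.gens w * h₂ * zel * (h₁ * evalW PresFi23.gens w * h₂)⁻¹)
          = zel * h₁ * evalW PresFi23.gens w * (h₂ * zel * h₂⁻¹) * (evalW PresFi23.gens w)⁻¹ * h₁⁻¹ := by group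
        _ = h₁ * (zel * (evalW PresFi23.gens w * (zel * (evalW PresFi23.gens w)⁻¹))) * h₁⁻¹ := by
          rw [hfix h₂ hh₂, Subgroup.mem_centralizer_iff.1 (stab_le_centralizer hh₁) zel rfl]
          group
    rw [hprod, conj_pow, conj_pow, ← evalW_pw, ← evalW_pw]
    simp only [List.mem_cons, List.not_mem_nil, or_false] at hw
    rcases hw with rfl | rfl
    · right
      rw [eq_one (w := pw 3 _) (by decide +kernel) (by decide +kernel), mul_one, mul_inv_cancel]
    · left
      rw [eq_one (w := pw 2 _) (by decide +kernel) (by decide +kernel), mul_one, mul_inv_cancel]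

theorem result : ∃ (G : Type) (_ : Group G) (_ : Finite G), Cfsg.IsFi23 G ∧ ∃ D : Set G,
    Cfsg.IsThreeTranspositionClass D ∧ Nat.card D = 31671 ∧ ∀ d ∈ D, ∃ (K : Type) (_ : Group K),
      Cfsg.IsFi22 K ∧ Cfsg.IsNonsplitDoubleCover (Subgroup.centralizer ({d} : Set G)) K := by
  refine ⟨Cfsg.Spor.Fi23, inferInstance, finite_fi23, isSimple_and_card, conjugatesOf zel, ⟨⟨?_, ?_⟩, ⟨zel, mem_conjugatesOf_self, rfl⟩, ?_⟩, ?_, ?_⟩
  · intro d hd
    obtain ⟨g, rfl⟩ := isConj_iff.1 hd
    refine orderOf_eq_prime (by rw [conj_pow, pow_two, zel_sq, mul_one, mul_inv_cancel]) fun h => zel_ne_one ?_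
    rwa [mul_inv_eq_one, mul_eq_left] at h
  · intro d hd d' hd'
    obtain ⟨g, rfl⟩ := isConj_iff.1 hd
    obtain ⟨g', rfl⟩ := isConj_iff.1 hd'
    have h : g * zel * g⁻¹ * (g' * zel * g'⁻¹) = g * (zel * ((g⁻¹ * g') * zel * (g⁻¹ * g')⁻¹)) * g⁻¹ := by group
    rcases pair_rel (g⁻¹ * g') with hp | hp
    · left; rw [h, conj_pow, hp, mul_one, mul_inv_cancel]
    · right; rw [h, conj_pow, hp, mul_one, mul_inv_cancel]
  · haveI : IsSimpleGroup Cfsg.Spor.Fi23 := isSimple_and_card.1
    have h := (Subgroup.normalClosure_normal (s := ({zel} : Set Cfsg.Spor.Fi23))).eq_bot_or_eq_top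
    rcases h with h | h
    · exact absurd (Subgroup.mem_bot.1 (h ▸ Subgroup.subset_normalClosure (Set.mem_singleton zel))) zel_ne_one
    · rw [← h, Subgroup.normalClosure, Group.conjugatesOfSet]
      simp
  · have hconj : MulAction.orbit (ConjAct Cfsg.Spor.Fi23) zel = conjugatesOf zel := by
      ext d
      change _ ↔ IsConj zel d
      rw [← ConjAct.mem_orbit_conjAct]
      exact MulAction.mem_orbit_symm
    rw [← hconj, Nat.card_congr (MulAction.orbitEquivQuotientStabilizer _ zel)]
    change (MulAction.stabilizer (ConjAct Cfsg.Spor.Fi23) zel).index = 31671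
    rw [ConjAct.stabilizer_eq_centralizer]
    change (Subgroup.centralizer ({zel} : Set Cfsg.Spor.Fi23)).index = 31671
    rw [centralizer_eq, stab_index]
  · intro d hd
    obtain ⟨g, rfl⟩ := isConj_iff.1 hd
    refine ⟨Cfsg.Spor.Fi22, inferInstance, Fi22Ord.isSimple_and_card, ?_⟩
    have hmap : stab.map (MulAut.conj g).toMonoidHom = Subgroup.centralizer {g * zel * g⁻¹} := by
      rw [← centralizer_eq]
      ext x
      rw [Subgroup.mem_map_equiv, MulAut.conj_symm_apply, Subgroup.mem_centralizer_singleton_iff,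
        Subgroup.mem_centralizer_singleton_iff]
      constructor
      · intro hx
        calc x * (g * zel * g⁻¹) = g * (g⁻¹ * x * g * zel) * g⁻¹ := by group
          _ = g * (zel * (g⁻¹ * x * g)) * g⁻¹ := by rw [hx]
          _ = g * zel * g⁻¹ * x := by group
      · intro hx
        calc g⁻¹ * x * g * zel = g⁻¹ * (x * (g * zel * g⁻¹)) * g := by group
          _ = g⁻¹ * (g * zel * g⁻¹ * x) * g := by rw [hx]
          _ = zel * (g⁻¹ * x * g) := by group
    exact cover_of_mulEquiv ((Subgroup.equivMapOfInjective stab _ (MulAut.conj g).injective).trans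
      (MulEquiv.subgroupCongr hmap)) isNonsplitDoubleCover

end Cfsg.Agent.Screen.CosetEnum.Fi23Ord
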